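import Mathlib
import Groth.Agent.NilAffine.Main
import Groth.Agent.FpqcDescent.IdealGlue

/-!
# Affine pieces of a square of thickenings
-/

set_option autoImplicit false
set_option backward.isDefEq.respectTransparency false
universe u

open AlgebraicGeometry CategoryTheory CategoryTheory.Limits TopologicalSpace

namespace Groth.Agent.ThickProp

variable {X X' Y Y' : Scheme.{u}} {iX : X ⟶ X'} {iY : Y ⟶ Y'} {f : X ⟶ Y} {f' : X' ⟶ Y'}

theorem preimage_le (w : iX ≫ f' = f ≫ iY) {U : Y'.Opens} {V : X'.Opens} (e : V ≤ f' ⁻¹ᵁ U) :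
    iX ⁻¹ᵁ V ≤ f ⁻¹ᵁ (iY ⁻¹ᵁ U) := by
  rw [← Scheme.Hom.comp_preimage, ← w, Scheme.Hom.comp_preimage]
  exact iX.preimage_mono e

theorem appLE_square (w : iX ≫ f' = f ≫ iY) {U : Y'.Opens} {V : X'.Opens} (e : V ≤ f' ⁻¹ᵁ U) :
    (iX.app V).hom.comp (f'.appLE U V e).hom =
      (f.appLE (iY ⁻¹ᵁ U) (iX ⁻¹ᵁ V) (preimage_le w e)).hom.comp (iY.app U).hom := by
  have h1 : f'.appLE U V e ≫ iX.appLE V (iX ⁻¹ᵁ V) le_rfl =
      (iX ≫ f').appLE U (iX ⁻¹ᵁ V) (iX.preimage_mono e) := Scheme.Hom.appLE_comp_appLE _ _ _ _ _ _ _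
  have h2 : iY.appLE U (iY ⁻¹ᵁ U) le_rfl ≫ f.appLE (iY ⁻¹ᵁ U) (iX ⁻¹ᵁ V) (preimage_le w e) =
      (f ≫ iY).appLE U (iX ⁻¹ᵁ V) (preimage_le w e) := Scheme.Hom.appLE_comp_appLE _ _ _ _ _ _ _
  have h3 : f'.appLE U V e ≫ iX.appLE V (iX ⁻¹ᵁ V) le_rfl =
      iY.appLE U (iY ⁻¹ᵁ U) le_rfl ≫ f.appLE (iY ⁻¹ᵁ U) (iX ⁻¹ᵁ V) (preimage_le w e) := by
    rw [h1, h2]
    congr 1
  rw [Scheme.Hom.app_eq_appLE, Scheme.Hom.app_eq_appLE, ← CommRingCat.hom_comp, h3, CommRingCat.hom_comp]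

theorem ker_eq_comap (hc : IsPullback iX f f' iY) [IsClosedImmersion iY] : iX.ker = iY.ker.comap f' := by
  rw [← Scheme.IdealSheafData.ker_fst_of_isClosedImmersion, ← hc.isoPullback_inv_fst,
    Scheme.Hom.ker_comp_of_isIso]

theorem isClosedImmersion_left (hc : IsPullback iX f f' iY) [IsClosedImmersion iY] : IsClosedImmersion iX :=
  MorphismProperty.of_isPullback (P := @IsClosedImmersion) hc.flip inferInstance

theorem surjective_left (hc : IsPullback iX f f' iY) [Surjective iY] : Surjective iX :=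
  MorphismProperty.of_isPullback (P := @Surjective) hc.flip inferInstance

theorem ker_app_eq_map (hc : IsPullback iX f f' iY) [IsClosedImmersion iY] (U : Y'.affineOpens)
    (V : X'.affineOpens) (e : V.1 ≤ f' ⁻¹ᵁ U.1) :
    RingHom.ker (iX.app V.1).hom = (RingHom.ker (iY.app U.1).hom).map (f'.appLE U.1 V.1 e).hom := by
  have := isClosedImmersion_left hc
  rw [← Scheme.Hom.ker_apply iX V, ← Scheme.Hom.ker_apply iY U, ker_eq_comap hc,
    FpqcDescent.ideal_comap_appLE iY.ker f' U V e]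

theorem isNilpotent_ker_app [IsClosedImmersion iY] (h : IsNilpotent iY.ker) (U : Y'.affineOpens) :
    IsNilpotent (RingHom.ker (iY.app U.1).hom) := by
  obtain ⟨n, hn⟩ := h
  refine ⟨n, ?_⟩
  rw [← Scheme.Hom.ker_apply iY U]
  have h2 : (iY.ker ^ n).ideal U = (0 : Y'.IdealSheafData).ideal U := by rw [hn]
  rw [Scheme.IdealSheafData.ideal_pow, Pi.pow_apply] at h2
  exact h2

theorem ker_app_le_nilradical [IsClosedImmersion iY] [Surjective iY] (U : Y'.affineOpens) :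
    RingHom.ker (iY.app U.1).hom ≤ nilradical Γ(Y', U.1) := fun a ha => by
  rw [← Scheme.Hom.ker_apply iY U] at ha
  exact NilAffine.isNilpotent_of_mem_ker iY U ha

end Groth.Agent.ThickProp
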