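import Mathlib

/-!
# Ring maps which are good modulo a nilpotent ideal
-/

set_option autoImplicit false
universe u

open TensorProduct

namespace Groth.Agent.ThickProp

variable {A' B' A B : Type u} [CommRing A'] [CommRing B'] [CommRing A] [CommRing B]
  (φ' : A' →+* B') (φ : A →+* B) (p : A' →+* A) (q : B' →+* B)

/-- If `φ` is formally unramified, the differentials of `φ'` vanish modulo the kernel of `q`. -/
theorem smul_kaehler_eq_top (h : q.comp φ' = φ.comp p) (hker : RingHom.ker q ≤ (RingHom.ker p).map φ')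
    (hp : Function.Surjective p) (hq : Function.Surjective q) (hφ : φ.FormallyUnramified) :
    letI := φ'.toAlgebra
    (RingHom.ker q) • (⊤ : Submodule B' Ω[B'⁄A']) = ⊤ := by
  letI := φ'.toAlgebra
  letI : Algebra A' B := (q.comp φ').toAlgebra
  letI := q.toAlgebra
  haveI : IsScalarTower A' B' B := IsScalarTower.of_algebraMap_eq' rfl
  have hB : Subsingleton Ω[B⁄A'] := by
    have h1 : (φ.comp p).FormallyUnramified :=
      RingHom.FormallyUnramified.comp (RingHom.FormallyUnramified.of_surjective hp) hφ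
    rw [← h] at h1
    exact (RingHom.formallyUnramified_algebraMap.mp h1).1
  have hmem : ∀ w ∈ (RingHom.ker p).map φ', algebraMap B' B w = 0 := fun w hw => by
    refine RingHom.mem_ker.mp ((Ideal.map_le_iff_le_comap.mpr fun a ha => ?_) hw)
    show q (φ' a) = 0
    rw [← RingHom.comp_apply, h, RingHom.comp_apply, RingHom.mem_ker.mp ha, map_zero]
  have hD : ∀ w ∈ (RingHom.ker p).map φ', (1 : B) ⊗ₜ[B'] KaehlerDifferential.D A' B' w = 0 := by
    intro w hw
    rw [Ideal.map] at hw
    induction hw using Submodule.span_induction with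
    | mem y hy =>
      obtain ⟨a, -, rfl⟩ := hy
      rw [show φ' a = algebraMap A' B' a from rfl, Derivation.map_algebraMap, TensorProduct.tmul_zero]
    | zero => rw [map_zero, TensorProduct.tmul_zero]
    | add y z _ _ hy hz => rw [map_add, TensorProduct.tmul_add, hy, hz, add_zero]
    | smul r y hy hy' =>
      rw [smul_eq_mul, Derivation.leibniz, TensorProduct.tmul_add, TensorProduct.tmul_smul,
        TensorProduct.tmul_smul, hy', smul_zero, zero_add, TensorProduct.smul_tmul', Algebra.smul_def,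
        hmem y hy, zero_mul, TensorProduct.zero_tmul]
  have hsub : Subsingleton (B ⊗[B'] Ω[B'⁄A']) := by
    refine subsingleton_of_forall_eq 0 fun z => ?_
    obtain ⟨c, hc⟩ := (KaehlerDifferential.exact_kerCotangentToTensor_mapBaseChange A' B' B hq z).mp
      (Subsingleton.elim _ _)
    obtain ⟨w, rfl⟩ := Ideal.toCotangent_surjective _ c
    rw [← hc, KaehlerDifferential.kerCotangentToTensor_toCotangent]
    exact hD _ (hker w.2)
  let e : (B' ⧸ RingHom.ker q) ≃ₗ[B'] B :=
    (Ideal.quotientKerAlgEquivOfSurjective (f := Algebra.ofId B' B) hq).toLinearEquiv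
  haveI : Subsingleton ((B' ⧸ RingHom.ker q) ⊗[B'] Ω[B'⁄A']) :=
    (TensorProduct.congr e (LinearEquiv.refl B' _)).toEquiv.subsingleton
  exact Submodule.Quotient.subsingleton_iff.mp
    (TensorProduct.quotTensorEquivQuotSMul _ (RingHom.ker q)).symm.toEquiv.subsingleton

theorem isNilpotent_map {J : Ideal A'} {K : Ideal B'} (hJ : IsNilpotent J) (hle : K ≤ J.map φ') :
    IsNilpotent K := by
  obtain ⟨n, hn⟩ := hJ
  refine ⟨n, eq_bot_iff.mpr ((Ideal.pow_right_mono hle n).trans ?_)⟩
  rw [← Ideal.map_pow, hn, Ideal.zero_eq_bot, Ideal.map_bot]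

theorem formallyUnramified_of_nilpotent (h : q.comp φ' = φ.comp p)
    (hker : RingHom.ker q ≤ (RingHom.ker p).map φ') (hp : Function.Surjective p) (hq : Function.Surjective q)
    (hJ : IsNilpotent (RingHom.ker p)) (hφ : φ.FormallyUnramified) : φ'.FormallyUnramified := by
  letI := φ'.toAlgebra
  have ht := smul_kaehler_eq_top φ' φ p q h hker hp hq hφ
  obtain ⟨n, hn⟩ := isNilpotent_map φ' hJ hker
  have key : ∀ m, (RingHom.ker q) ^ m • (⊤ : Submodule B' Ω[B'⁄A']) = ⊤ := by
    intro m
    induction m with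
    | zero => rw [pow_zero, Ideal.one_eq_top, Submodule.top_smul]
    | succ m ih => rw [pow_succ, Submodule.mul_smul, ht, ih]
  have h0 := key n
  rw [hn, Ideal.zero_eq_bot, Submodule.bot_smul] at h0
  exact RingHom.formallyUnramified_algebraMap.mpr ⟨(Submodule.subsingleton_iff B').mp (subsingleton_of_bot_eq_top h0)⟩

theorem formallyUnramified_of_finiteType (h : q.comp φ' = φ.comp p)
    (hker : RingHom.ker q ≤ (RingHom.ker p).map φ') (hp : Function.Surjective p) (hq : Function.Surjective q)
    (hJ : RingHom.ker p ≤ nilradical A') (hft : φ'.FiniteType) (hφ : φ.FormallyUnramified) :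
    φ'.FormallyUnramified := by
  letI := φ'.toAlgebra
  haveI : Algebra.FiniteType A' B' := hft
  have ht := smul_kaehler_eq_top φ' φ p q h hker hp hq hφ
  have hle : RingHom.ker q ≤ (⊥ : Ideal B').jacobson := by
    refine (hker.trans (Ideal.map_le_iff_le_comap.mpr fun a ha => ?_)).trans
      ((nilradical_le_jacobson B').trans Ideal.jacobson_bot.ge)
    exact mem_nilradical.mpr ((mem_nilradical.mp (hJ ha)).map φ')
  have h0 : (⊤ : Submodule B' Ω[B'⁄A']) = ⊥ :=
    Submodule.eq_bot_of_le_smul_of_le_jacobson_bot _ _ (Module.Finite.fg_top) ht.ge hle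
  exact RingHom.formallyUnramified_algebraMap.mpr ⟨(Submodule.subsingleton_iff B').mp (subsingleton_of_bot_eq_top h0.symm)⟩

/-- A subring which with a nilpotent ideal generated from inside spans everything is everything. -/
theorem subring_eq_top (C : Subring B') (J : Ideal B') (hJ : IsNilpotent J) (t : Set B') (ht : Ideal.span t = J)
    (htC : t ⊆ C) (hC : ∀ b, ∃ c ∈ C, b - c ∈ J) : C = ⊤ := by
  obtain ⟨n, hn⟩ := hJ
  have step : ∀ m, ∀ x ∈ J ^ m, ∃ c ∈ C, x - c ∈ J ^ (m + 1) := by
    intro m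
    induction m with
    | zero => intro x _; simpa using hC x
    | succ m ih =>
      intro x hx
      rw [pow_succ] at hx
      induction hx using Submodule.mul_induction_on' with
      | mem_mul_mem u hu v hv =>
        rw [← ht] at hv
        induction hv using Submodule.span_induction generalizing u with
        | mem y hy =>
          obtain ⟨c, hc, hc'⟩ := ih u hu
          refine ⟨c * y, mul_mem hc (htC hy), ?_⟩
          rw [← sub_mul, pow_succ J (m + 1)]
          exact Ideal.mul_mem_mul hc' (ht ▸ Ideal.subset_span hy)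
        | zero => exact ⟨0, zero_mem _, by simp⟩
        | add y z _ _ hy hz =>
          obtain ⟨c, hc, hc'⟩ := hy u hu
          obtain ⟨d, hd, hd'⟩ := hz u hu
          exact ⟨c + d, add_mem hc hd, by rw [mul_add, add_sub_add_comm]; exact add_mem hc' hd'⟩
        | smul r y _ hy =>
          obtain ⟨c, hc, hc'⟩ := hy (u * r) (Ideal.mul_mem_right _ _ hu)
          exact ⟨c, hc, by rw [smul_eq_mul, ← mul_assoc]; exact hc'⟩
      | add x _ y _ hx hy =>
        obtain ⟨c, hc, hc'⟩ := hx
        obtain ⟨d, hd, hd'⟩ := hy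
        exact ⟨c + d, add_mem hc hd, by rw [add_sub_add_comm]; exact add_mem hc' hd'⟩
  refine top_le_iff.mp fun b _ => ?_
  have key : ∀ m, ∃ c ∈ C, b - c ∈ J ^ m := by
    intro m
    induction m with
    | zero => exact ⟨0, zero_mem _, by simp⟩
    | succ m ih =>
      obtain ⟨c, hc, hc'⟩ := ih
      obtain ⟨d, hd, hd'⟩ := step m _ hc'
      exact ⟨c + d, add_mem hc hd, by rw [← sub_sub]; exact hd'⟩
  obtain ⟨c, hc, hc'⟩ := key n
  rw [hn, Ideal.zero_eq_bot, Ideal.mem_bot, sub_eq_zero] at hc'
  exact hc' ▸ hc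

theorem surjective_of_finiteType (h : q.comp φ' = φ.comp p)
    (hker : RingHom.ker q ≤ (RingHom.ker p).map φ') (hp : Function.Surjective p)
    (hJ : RingHom.ker p ≤ nilradical A') (hft : φ'.FiniteType) (hφ : Function.Surjective φ) :
    Function.Surjective φ' := by
  classical
  letI := φ'.toAlgebra
  obtain ⟨s, hs⟩ := (hft : Algebra.FiniteType A' B').out
  have hx : ∀ x : B', ∃ (a : A') (T : Finset A'), (T : Set A') ⊆ RingHom.ker p ∧
      x - φ' a ∈ (Ideal.span (T : Set A')).map φ' := by
    intro x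
    obtain ⟨a₀, ha₀⟩ := hφ (q x)
    obtain ⟨a, rfl⟩ := hp a₀
    have hmem : x - φ' a ∈ Ideal.span (φ' '' (RingHom.ker p : Set A')) := hker (by
      rw [RingHom.mem_ker, map_sub, ← RingHom.comp_apply q φ', h, RingHom.comp_apply, ha₀, sub_self])
    obtain ⟨T', hT', hm'⟩ := Submodule.mem_span_finite_of_mem_span hmem
    obtain ⟨T, hT, rfl⟩ := Finset.subset_set_image_iff.mp hT'
    exact ⟨a, T, hT, by rw [Ideal.map_span, ← Finset.coe_image]; exact hm'⟩
  choose a T hT hxT using hx
  let J0 : Ideal A' := Ideal.span ↑(s.biUnion T)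
  have hJ0 : IsNilpotent J0 := (Ideal.FG.isNilpotent_iff_le_nilradical (Submodule.fg_span (s.biUnion T).finite_toSet)).mpr
    (Ideal.span_le.mpr fun y hy => by
      obtain ⟨x, -, hxy⟩ := Finset.mem_biUnion.mp hy
      exact hJ (hT x hxy))
  have hC : φ'.range = ⊤ := by
    refine subring_eq_top φ'.range (J0.map φ') (isNilpotent_map φ' hJ0 le_rfl)
      (φ' '' (↑(s.biUnion T) : Set A')) (Ideal.map_span _ _).symm (Set.image_subset_range _ _) fun b => ?_
    have hb : b ∈ Algebra.adjoin A' (s : Set B') := hs ▸ Algebra.mem_top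
    induction hb using Algebra.adjoin_induction with
    | mem x hx => exact ⟨φ' (a x), ⟨_, rfl⟩, Ideal.map_mono
        (Ideal.span_mono fun y hy => Finset.mem_biUnion.mpr ⟨x, hx, hy⟩) (hxT x)⟩
    | algebraMap r => exact ⟨φ' r, ⟨r, rfl⟩, by rw [show algebraMap A' B' r = φ' r from rfl, sub_self]; exact zero_mem _⟩
    | add x y _ _ hx hy =>
      obtain ⟨c, hc, hc'⟩ := hx
      obtain ⟨d, hd, hd'⟩ := hy
      exact ⟨c + d, add_mem hc hd, by rw [add_sub_add_comm]; exact add_mem hc' hd'⟩
    | mul x y _ _ hx hy =>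
      obtain ⟨c, hc, hc'⟩ := hx
      obtain ⟨d, hd, hd'⟩ := hy
      refine ⟨c * d, mul_mem hc hd, ?_⟩
      rw [show x * y - c * d = (x - c) * y + c * (y - d) by ring]
      exact add_mem (Ideal.mul_mem_right _ _ hc') (Ideal.mul_mem_left _ _ hd')
  exact RingHom.range_eq_top.mp hC

theorem finiteType_of_nilpotent (h : q.comp φ' = φ.comp p)
    (hker : RingHom.ker q ≤ (RingHom.ker p).map φ') (hp : Function.Surjective p) (hq : Function.Surjective q)
    (hJ : IsNilpotent (RingHom.ker p)) (hφ : φ.FiniteType) : φ'.FiniteType := by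
  classical
  letI := φ'.toAlgebra
  letI := φ.toAlgebra
  obtain ⟨s, hs⟩ := (hφ : Algebra.FiniteType A B).out
  let C := Algebra.adjoin A' (↑(s.image (Function.surjInv hq)) : Set B')
  have hC : C.toSubring = ⊤ := by
    refine subring_eq_top C.toSubring ((RingHom.ker p).map φ') (isNilpotent_map φ' hJ le_rfl)
      (φ' '' (RingHom.ker p : Set A')) rfl (Set.image_subset_iff.mpr fun x _ => C.algebraMap_mem x) fun b => ?_
    suffices hb : ∀ z : B, ∃ c ∈ C, q c = z by
      obtain ⟨c, hc, hc'⟩ := hb (q b)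
      exact ⟨c, hc, hker (by rw [RingHom.mem_ker, map_sub, hc', sub_self])⟩
    intro z
    have hz : z ∈ Algebra.adjoin A (s : Set B) := hs ▸ Algebra.mem_top
    induction hz using Algebra.adjoin_induction with
    | mem x hx => exact ⟨_, Algebra.subset_adjoin (Finset.mem_coe.mpr (Finset.mem_image_of_mem _ hx)), Function.surjInv_eq hq x⟩
    | algebraMap r =>
      obtain ⟨r', rfl⟩ := hp r
      exact ⟨φ' r', C.algebraMap_mem r', by rw [← RingHom.comp_apply, h]; rfl⟩
    | add x y _ _ hx hy =>
      obtain ⟨c, hc, hc'⟩ := hx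
      obtain ⟨d, hd, hd'⟩ := hy
      exact ⟨c + d, add_mem hc hd, by rw [map_add, hc', hd']⟩
    | mul x y _ _ hx hy =>
      obtain ⟨c, hc, hc'⟩ := hx
      obtain ⟨d, hd, hd'⟩ := hy
      exact ⟨c * d, mul_mem hc hd, by rw [map_mul, hc', hd']⟩
  refine ⟨⟨s.image (Function.surjInv hq), top_le_iff.mp fun b _ => ?_⟩⟩
  have : b ∈ C.toSubring := hC ▸ Subring.mem_top b
  exact this

/-- The variant for a finitely generated nilpotent kernel of `q`. -/
theorem finiteType_of_fg_ker (h : q.comp φ' = φ.comp p) (hp : Function.Surjective p) (hq : Function.Surjective q)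
    (hfg : (RingHom.ker q).FG) (hI : IsNilpotent (RingHom.ker q)) (hφ : φ.FiniteType) : φ'.FiniteType := by
  classical
  letI := φ'.toAlgebra
  letI := φ.toAlgebra
  obtain ⟨s, hs⟩ := (hφ : Algebra.FiniteType A B).out
  obtain ⟨t, ht⟩ := hfg
  let G := s.image (Function.surjInv hq) ∪ t
  let C := Algebra.adjoin A' (↑G : Set B')
  have hC : C.toSubring = ⊤ := by
    refine subring_eq_top C.toSubring _ hI (↑t) ht (fun x hx => Algebra.subset_adjoin
      (Finset.mem_coe.mpr (Finset.mem_union_right _ hx))) fun b => ?_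
    suffices hb : ∀ z : B, ∃ c ∈ C, q c = z by
      obtain ⟨c, hc, hc'⟩ := hb (q b)
      exact ⟨c, hc, by rw [RingHom.mem_ker, map_sub, hc', sub_self]⟩
    intro z
    have hz : z ∈ Algebra.adjoin A (s : Set B) := hs ▸ Algebra.mem_top
    induction hz using Algebra.adjoin_induction with
    | mem x hx => exact ⟨_, Algebra.subset_adjoin (Finset.mem_coe.mpr (Finset.mem_union_left _ (Finset.mem_image_of_mem _ hx))), Function.surjInv_eq hq x⟩
    | algebraMap r =>
      obtain ⟨r', rfl⟩ := hp r
      exact ⟨φ' r', C.algebraMap_mem r', by rw [← RingHom.comp_apply, h]; rfl⟩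
    | add x y _ _ hx hy =>
      obtain ⟨c, hc, hc'⟩ := hx
      obtain ⟨d, hd, hd'⟩ := hy
      exact ⟨c + d, add_mem hc hd, by rw [map_add, hc', hd']⟩
    | mul x y _ _ hx hy =>
      obtain ⟨c, hc, hc'⟩ := hx
      obtain ⟨d, hd, hd'⟩ := hy
      exact ⟨c * d, mul_mem hc hd, by rw [map_mul, hc', hd']⟩
  refine ⟨⟨G, top_le_iff.mp fun b _ => ?_⟩⟩
  have : b ∈ C.toSubring := hC ▸ Subring.mem_top b
  exact this

theorem finite_of_nilpotent (h : q.comp φ' = φ.comp p)
    (hker : RingHom.ker q ≤ (RingHom.ker p).map φ') (hp : Function.Surjective p) (hq : Function.Surjective q)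
    (hJ : IsNilpotent (RingHom.ker p)) (hφ : φ.Finite) : φ'.Finite := by
  classical
  letI := φ'.toAlgebra
  letI := φ.toAlgebra
  obtain ⟨s, hs⟩ := (hφ : Module.Finite A B).fg_top
  let N : Submodule A' B' := Submodule.span A' ↑(s.image (Function.surjInv hq))
  have hN : ∀ z : B, ∃ c ∈ N, q c = z := by
    intro z
    have hz : z ∈ Submodule.span A (s : Set B) := hs ▸ Submodule.mem_top
    induction hz using Submodule.span_induction with
    | mem x hx => exact ⟨_, Submodule.subset_span (Finset.mem_coe.mpr (Finset.mem_image_of_mem _ hx)), Function.surjInv_eq hq x⟩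
    | zero => exact ⟨0, zero_mem _, map_zero q⟩
    | add x y _ _ hx hy =>
      obtain ⟨c, hc, hc'⟩ := hx
      obtain ⟨d, hd, hd'⟩ := hy
      exact ⟨c + d, add_mem hc hd, by rw [map_add, hc', hd']⟩
    | smul r x _ hx =>
      obtain ⟨c, hc, hc'⟩ := hx
      obtain ⟨r', rfl⟩ := hp r
      refine ⟨r' • c, N.smul_mem r' hc, ?_⟩
      rw [Algebra.smul_def, Algebra.smul_def, map_mul, hc', show algebraMap A' B' r' = φ' r' from rfl,
        ← RingHom.comp_apply, h]
      rfl
  have hle : (⊤ : Submodule A' B') ≤ N ⊔ (RingHom.ker p) • ⊤ := fun b _ => by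
    obtain ⟨c, hc, hc'⟩ := hN (q b)
    have h2 : b - c ∈ (RingHom.ker p).map (algebraMap A' B') :=
      hker (by rw [RingHom.mem_ker, map_sub, hc', sub_self])
    rw [← add_sub_cancel c b]
    refine Submodule.add_mem_sup hc ?_
    rw [← Submodule.restrictScalars_mem A'] at h2
    rwa [Ideal.smul_top_eq_map]
  obtain ⟨n, hn⟩ := hJ
  have key : ∀ m, (⊤ : Submodule A' B') ≤ N ⊔ (RingHom.ker p) ^ m • ⊤ := by
    intro m
    induction m with
    | zero => rw [pow_zero, Ideal.one_eq_top, Submodule.top_smul]; exact le_sup_right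
    | succ m ih =>
      refine ih.trans (sup_le le_sup_left ?_)
      refine (Submodule.smul_mono le_rfl hle).trans ?_
      rw [Submodule.smul_sup, ← Submodule.mul_smul, ← pow_succ]
      exact sup_le (le_sup_of_le_left Submodule.smul_le_right) le_sup_right
  have h0 := key n
  rw [hn, Ideal.zero_eq_bot, Submodule.bot_smul, sup_bot_eq] at h0
  exact ⟨⟨s.image (Function.surjInv hq), top_le_iff.mp h0⟩⟩

end Groth.Agent.ThickProp
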