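import Mathlib
import Groth.Agent.ThickProp.Square
import Groth.Agent.ThickProp.Ring

/-!
# Properties of morphisms insensitive to thickenings of the base
-/

set_option autoImplicit false
set_option backward.isDefEq.respectTransparency false
universe u

open AlgebraicGeometry CategoryTheory CategoryTheory.Limits TopologicalSpace

namespace Groth.Agent.ThickProp

variable {X X' Y Y' : Scheme.{u}} {iX : X ⟶ X'} {iY : Y ⟶ Y'} {f : X ⟶ Y} {f' : X' ⟶ Y'}
variable (hc : IsPullback iX f f' iY)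

include hc

theorem formallyUnramified_of_finiteOrder [IsClosedImmersion iY] (hn : IsNilpotent iY.ker)
    [FormallyUnramified f] : FormallyUnramified f' := by
  have := isClosedImmersion_left hc
  rw [HasRingHomProperty.iff_appLE (P := @FormallyUnramified)]
  intro U V e
  exact formallyUnramified_of_nilpotent _ _ _ _ (appLE_square hc.w e) (ker_app_eq_map hc U V e).le
    (iY.app_surjective U.1 U.2) (iX.app_surjective V.1 V.2) (isNilpotent_ker_app hn U)
    (HasRingHomProperty.appLE (P := @FormallyUnramified) f inferInstance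
      ⟨iY ⁻¹ᵁ U.1, U.2.preimage iY⟩ ⟨iX ⁻¹ᵁ V.1, V.2.preimage iX⟩ (preimage_le hc.w e))

theorem formallyUnramified_of_lft [IsClosedImmersion iY] [Surjective iY] [LocallyOfFiniteType f']
    [FormallyUnramified f] : FormallyUnramified f' := by
  have := isClosedImmersion_left hc
  rw [HasRingHomProperty.iff_appLE (P := @FormallyUnramified)]
  intro U V e
  exact formallyUnramified_of_finiteType _ _ _ _ (appLE_square hc.w e) (ker_app_eq_map hc U V e).le
    (iY.app_surjective U.1 U.2) (iX.app_surjective V.1 V.2) (ker_app_le_nilradical U)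
    (HasRingHomProperty.appLE (P := @LocallyOfFiniteType) f' inferInstance U V e)
    (HasRingHomProperty.appLE (P := @FormallyUnramified) f inferInstance
      ⟨iY ⁻¹ᵁ U.1, U.2.preimage iY⟩ ⟨iX ⁻¹ᵁ V.1, V.2.preimage iX⟩ (preimage_le hc.w e))

theorem formallyUnramified_baseChange [FormallyUnramified f'] : FormallyUnramified f :=
  MorphismProperty.of_isPullback (P := @FormallyUnramified) hc inferInstance

theorem locallyOfFiniteType_of_finiteOrder [IsClosedImmersion iY] (hn : IsNilpotent iY.ker)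
    [LocallyOfFiniteType f] : LocallyOfFiniteType f' := by
  have := isClosedImmersion_left hc
  rw [HasRingHomProperty.iff_appLE (P := @LocallyOfFiniteType)]
  intro U V e
  exact finiteType_of_nilpotent _ _ _ _ (appLE_square hc.w e) (ker_app_eq_map hc U V e).le
    (iY.app_surjective U.1 U.2) (iX.app_surjective V.1 V.2) (isNilpotent_ker_app hn U)
    (HasRingHomProperty.appLE (P := @LocallyOfFiniteType) f inferInstance
      ⟨iY ⁻¹ᵁ U.1, U.2.preimage iY⟩ ⟨iX ⁻¹ᵁ V.1, V.2.preimage iX⟩ (preimage_le hc.w e))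

omit hc in
theorem appLE_surjective_of_eq {A B : Scheme.{u}} (g : A ⟶ B) {U : B.Opens} {V : A.Opens}
    (h : V = g ⁻¹ᵁ U) (e : V ≤ g ⁻¹ᵁ U) (hs : Function.Surjective (g.app U)) :
    Function.Surjective (g.appLE U V e).hom := by
  subst h
  rw [Scheme.Hom.appLE_eq_app]
  exact hs

theorem isAffineHom_right [IsClosedImmersion iY] [Surjective iY] [IsAffineHom f] : IsAffineHom f' := by
  have := isClosedImmersion_left hc
  have := surjective_left hc
  haveI : IsAffineHom (iX ≫ f') := hc.w ▸ inferInstance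
  exact NilAffine.isAffineHom_of_comp iX f'

theorem isClosedImmersion_of_lft [IsClosedImmersion iY] [Surjective iY] [LocallyOfFiniteType f']
    [IsClosedImmersion f] : IsClosedImmersion f' := by
  have := isClosedImmersion_left hc
  have := isAffineHom_right hc
  rw [isClosedImmersion_iff_isAffineHom]
  refine ⟨inferInstance, fun U hU => ?_⟩
  let U0 : Y'.affineOpens := ⟨U, hU⟩
  let V : X'.affineOpens := ⟨f' ⁻¹ᵁ U, hU.preimage f'⟩
  have hs : Function.Surjective (f.appLE (iY ⁻¹ᵁ U) (iX ⁻¹ᵁ (f' ⁻¹ᵁ U)) (preimage_le hc.w le_rfl)).hom :=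
    appLE_surjective_of_eq f (by rw [← Scheme.Hom.comp_preimage, hc.w, Scheme.Hom.comp_preimage]) _
      (f.app_surjective _ (hU.preimage iY))
  have h := surjective_of_finiteType _ _ _ _ (appLE_square hc.w (le_refl (f' ⁻¹ᵁ U)))
    (ker_app_eq_map hc U0 V le_rfl).le (iY.app_surjective U hU) (ker_app_le_nilradical U0)
    (HasRingHomProperty.appLE (P := @LocallyOfFiniteType) f' inferInstance U0 V le_rfl) hs
  rwa [Scheme.Hom.appLE_eq_app] at h

theorem isNilpotent_ker_left [IsClosedImmersion iY] (hn : IsNilpotent iY.ker) : IsNilpotent iX.ker := by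
  obtain ⟨n, hn⟩ := hn
  have := isClosedImmersion_left hc
  refine ⟨n, ?_⟩
  refine Scheme.IdealSheafData.ext_of_iSup_eq_top
    (fun p : {p : Y'.affineOpens × X'.affineOpens // p.2.1 ≤ f' ⁻¹ᵁ p.1.1} => p.1.2) ?_ ?_
  · refine top_le_iff.mp fun x _ => ?_
    obtain ⟨U, hU⟩ := NilAffine.affineOpens_cover Y' (f' x)
    obtain ⟨V, hV, hxV, hVU⟩ := exists_isAffineOpen_mem_and_subset (X := X') (x := x) (U := f' ⁻¹ᵁ U.1) hU
    exact Opens.mem_iSup.mpr ⟨⟨(U, ⟨V, hV⟩), hVU⟩, hxV⟩
  · rintro ⟨⟨U, V⟩, e⟩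
    have h2 : (iY.ker ^ n).ideal U = (0 : Y'.IdealSheafData).ideal U := by rw [hn]
    rw [Scheme.IdealSheafData.ideal_pow, Pi.pow_apply, Scheme.Hom.ker_apply] at h2
    show (iX.ker ^ n).ideal V = _
    rw [Scheme.IdealSheafData.ideal_pow, Pi.pow_apply, Scheme.Hom.ker_apply, ker_app_eq_map hc U V e,
      ← Ideal.map_pow, h2]
    exact Ideal.map_bot

omit hc in
theorem hom_ext_of_finiteOrder {T T' : Scheme.{u}} (i : T' ⟶ T) [IsClosedImmersion i] (hn : IsNilpotent i.ker)
    [FormallyUnramified f'] {g h : T ⟶ X'} (h1 : i ≫ g = i ≫ h) (h2 : g ≫ f' = h ≫ f') : g = h :=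
  FormallyUnramified.hom_ext i hn f' h1 h2

theorem mono_of_finiteOrder [IsClosedImmersion iY] (hn : IsNilpotent iY.ker) [Mono f] : Mono f' := by
  haveI : FormallyUnramified f' := formallyUnramified_of_finiteOrder hc hn
  refine ⟨fun {T} g h w => ?_⟩
  let iT := pullback.fst (g ≫ f') iY
  haveI : IsClosedImmersion iT := MorphismProperty.pullback_fst (P := @IsClosedImmersion) _ _ inferInstance
  have hT : IsPullback iT (pullback.snd (g ≫ f') iY) (g ≫ f') iY := IsPullback.of_hasPullback _ _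
  refine hom_ext_of_finiteOrder iT (isNilpotent_ker_left hT hn) ?_ w
  have e1 : (iT ≫ g) ≫ f' = pullback.snd (g ≫ f') iY ≫ iY := by rw [Category.assoc]; exact hT.w
  have e2 : (iT ≫ h) ≫ f' = pullback.snd (g ≫ f') iY ≫ iY := by rw [Category.assoc, ← w]; exact hT.w
  have e : hc.lift _ _ e1 = hc.lift _ _ e2 := by rw [← cancel_mono f, hc.lift_snd, hc.lift_snd]
  rw [← hc.lift_fst _ _ e1, e, hc.lift_fst]

theorem isFinite_of_nilpotent [IsClosedImmersion iY] [Surjective iY]
    (hn : ∀ U : Y'.affineOpens, IsNilpotent (iY.ker.ideal U)) [IsFinite f] : IsFinite f' := by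
  have := isClosedImmersion_left hc
  have := isAffineHom_right hc
  refine { toIsAffineHom := this, finite_app := fun U hU => ?_ }
  let U0 : Y'.affineOpens := ⟨U, hU⟩
  let V : X'.affineOpens := ⟨f' ⁻¹ᵁ U, hU.preimage f'⟩
  have hf : (f.appLE (iY ⁻¹ᵁ U) (iX ⁻¹ᵁ (f' ⁻¹ᵁ U)) (preimage_le hc.w le_rfl)).hom.Finite := by
    have h0 := IsFinite.finite_app (f := f) _ (hU.preimage iY)
    have : iX ⁻¹ᵁ (f' ⁻¹ᵁ U) = f ⁻¹ᵁ (iY ⁻¹ᵁ U) := by rw [← Scheme.Hom.comp_preimage, hc.w, Scheme.Hom.comp_preimage]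
    revert h0
    generalize preimage_le hc.w (le_refl (f' ⁻¹ᵁ U)) = e
    revert e
    rw [this]
    intro e h0
    rwa [Scheme.Hom.appLE_eq_app]
  have h := finite_of_nilpotent _ _ _ _ (appLE_square hc.w (le_refl (f' ⁻¹ᵁ U)))
    (ker_app_eq_map hc U0 V le_rfl).le (iY.app_surjective U hU) (iX.app_surjective _ V.2)
    (by rw [← Scheme.Hom.ker_apply iY U0]; exact hn U0) hf
  rwa [Scheme.Hom.appLE_eq_app] at h

end Groth.Agent.ThickProp
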