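import Mathlib
import Groth.Agent.ThickProp.Scheme
import Groth.Agent.S1307

/-!
# Monomorphisms and immersions over a thickening, finite type case
-/

set_option autoImplicit false
set_option backward.isDefEq.respectTransparency false
universe u

open AlgebraicGeometry CategoryTheory CategoryTheory.Limits TopologicalSpace

namespace Groth.Agent.ThickProp

variable {X X' Y Y' : Scheme.{u}} {iX : X ⟶ X'} {iY : Y ⟶ Y'} {f : X ⟶ Y} {f' : X' ⟶ Y'}
variable (hc : IsPullback iX f f' iY)

include hc

theorem mono_of_lft [IsClosedImmersion iY] [Surjective iY] [LocallyOfFiniteType f'] [Mono f] : Mono f' := by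
  haveI : FormallyUnramified f' := formallyUnramified_of_lft hc
  haveI : UniversallyInjective f' :=
    (S1307.result iX iY f f' ⟨isClosedImmersion_left hc, surjective_left hc⟩ ⟨‹_›, ‹_›⟩ hc.w).mp inferInstance
  haveI : Surjective (pullback.diagonal f') := (UniversallyInjective.iff_diagonal f').mp inferInstance
  haveI : IsIso (pullback.diagonal f') := (isIso_iff_isOpenImmersion_and_surjective _).mpr ⟨inferInstance, inferInstance⟩
  exact (pullback.isIso_diagonal_iff f').mp inferInstance

theorem isImmersion_of_lft [IsClosedImmersion iY] [Surjective iY] [LocallyOfFiniteType f']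
    [IsImmersion f] : IsImmersion f' := by
  have := isClosedImmersion_left hc
  have := surjective_left hc
  let U : Y'.Opens := ⟨(iY '' ((f.coborderRange : Set Y)ᶜ))ᶜ,
    (iY.isClosedEmbedding.isClosedMap _ f.coborderRange.2.isClosed_compl).isOpen_compl⟩
  have hU : iY ⁻¹ᵁ U = f.coborderRange := by
    ext y
    show iY y ∉ iY '' _ ↔ _
    rw [iY.isClosedEmbedding.injective.mem_set_image, Set.mem_compl_iff, not_not]
  have hrange : Set.range f' ⊆ Set.range U.ι := by
    rw [Scheme.Opens.range_ι]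
    rintro _ ⟨x', rfl⟩
    obtain ⟨x, rfl⟩ := iX.surjective x'
    rw [← Scheme.Hom.comp_apply, hc.w, Scheme.Hom.comp_apply]
    show f x ∈ iY ⁻¹ᵁ U
    rw [hU]
    have : f x ∈ Set.range f.coborderRange.ι :=
      ⟨f.liftCoborder x, by rw [← Scheme.Hom.comp_apply, Scheme.Hom.liftCoborder_ι]⟩
    rwa [Scheme.Opens.range_ι] at this
  let f₁' := IsOpenImmersion.lift U.ι f' hrange
  let f₁ : X ⟶ (iY ⁻¹ᵁ U : Scheme.{u}) := f.liftCoborder ≫ (Y.isoOfEq hU.symm).hom
  have hf₁ : f₁ ≫ (iY ⁻¹ᵁ U).ι = f := by simp [f₁]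
  have hf₁' : f₁' ≫ U.ι = f' := IsOpenImmersion.lift_fac _ _ _
  haveI : IsClosedImmersion f₁ := inferInstance
  haveI : LocallyOfFiniteType f₁' := by
    have : LocallyOfFiniteType (f₁' ≫ U.ι) := hf₁'.symm ▸ inferInstance
    exact locallyOfFiniteType_of_comp f₁' U.ι
  haveI : IsClosedImmersion (iY ∣_ U) := IsZariskiLocalAtTarget.restrict ‹_› U
  haveI : Surjective (iY ∣_ U) := IsZariskiLocalAtTarget.restrict ‹_› U
  have htop : iX ≫ f₁' = f₁ ≫ (iY ∣_ U) := by
    rw [← cancel_mono U.ι, Category.assoc, hf₁', Category.assoc, morphismRestrict_ι, ← Category.assoc, hf₁, hc.w]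
  have hsq : IsPullback iX f₁ f₁' (iY ∣_ U) := by
    refine IsPullback.of_bot ?_ htop (isPullback_morphismRestrict iY U)
    rw [hf₁, hf₁']; exact hc
  haveI := isClosedImmersion_of_lft hsq
  rw [← hf₁']
  infer_instance

end Groth.Agent.ThickProp
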