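import Mathlib
import Groth.Agent.LocalCrit.Basic
import Groth.Agent.LocalCrit.Criterion

/-!
# Fibrewise flatness modulo a nilpotent ideal

If `C` is flat over `A`, `J` is nilpotent and `C/JC` is flat over `B/JB`, then `C` is flat over `B`.
-/

set_option autoImplicit false
universe u

open TensorProduct

namespace Groth.Agent.ThickProp

open Groth.Agent.LocalCrit

variable {A B C : Type u} [CommRing A] [CommRing B] [Algebra A B]

section
variable [AddCommGroup C] [Module B C] [Module A C] [IsScalarTower A B C]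

theorem mulMap_map_injective [Module.Flat A C] (J : Ideal A) :
    Function.Injective (mulMap (J.map (algebraMap A B)) C) := by
  let φ : J →ₗ[A] ↥((J.map (algebraMap A B)).restrictScalars A) :=
    ((Algebra.linearMap A B).restrict fun x hx => Ideal.mem_map_of_mem _ hx)
  let θ : J ⊗[A] C →+ (J.map (algebraMap A B)) ⊗[B] C :=
    TensorProduct.liftAddHom
      { toFun := fun j =>
          { toFun := fun c => (⟨algebraMap A B j.1, Ideal.mem_map_of_mem _ j.2⟩ : J.map (algebraMap A B)) ⊗ₜ[B] c
            map_zero' := TensorProduct.tmul_zero _ _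
            map_add' := fun x y => TensorProduct.tmul_add _ _ _ }
        map_zero' := by
          ext c
          show (⟨algebraMap A B 0, _⟩ : J.map (algebraMap A B)) ⊗ₜ[B] c = 0
          rw [show (⟨algebraMap A B 0, Ideal.mem_map_of_mem _ J.zero_mem⟩ : J.map (algebraMap A B)) = 0 from
            Subtype.ext (map_zero (algebraMap A B)), TensorProduct.zero_tmul]
        map_add' := fun x y => by
          ext c
          simp only [AddMonoidHom.add_apply, AddMonoidHom.coe_mk, ZeroHom.coe_mk]
          rw [← TensorProduct.add_tmul]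
          congr 1
          exact Subtype.ext (map_add (algebraMap A B) _ _) }
      (fun r j c => by
        show (⟨algebraMap A B (r * j.1), _⟩ : J.map (algebraMap A B)) ⊗ₜ[B] c = _ ⊗ₜ[B] (r • c)
        rw [← algebraMap_smul B r c, ← TensorProduct.smul_tmul]
        congr 1
        exact Subtype.ext (map_mul _ _ _))
  have hθ : ∀ j c, θ (j ⊗ₜ c) = (⟨algebraMap A B j.1, Ideal.mem_map_of_mem _ j.2⟩ : J.map (algebraMap A B)) ⊗ₜ[B] c :=
    fun j c => rfl
  have hsurj : Function.Surjective θ := by
    intro z
    induction z using TensorProduct.induction_on with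
    | zero => exact ⟨0, map_zero θ⟩
    | tmul a c =>
      obtain ⟨a, ha⟩ := a
      induction ha using Submodule.span_induction generalizing c with
      | mem y hy => obtain ⟨j, hj, rfl⟩ := hy; exact ⟨(⟨j, hj⟩ : J) ⊗ₜ c, hθ _ _⟩
      | zero => exact ⟨0, by rw [map_zero]; exact (TensorProduct.zero_tmul _ c).symm⟩
      | add x y hx hy hx' hy' =>
        obtain ⟨p, hp⟩ := hx' c
        obtain ⟨q, hq⟩ := hy' c
        exact ⟨p + q, by rw [map_add, hp, hq, ← TensorProduct.add_tmul]; rfl⟩
      | smul r x hx hx' =>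
        obtain ⟨p, hp⟩ := hx' (r • c)
        exact ⟨p, by rw [hp, ← TensorProduct.smul_tmul]; rfl⟩
    | add x y hx hy =>
      obtain ⟨p, rfl⟩ := hx
      obtain ⟨q, rfl⟩ := hy
      exact ⟨p + q, map_add θ p q⟩
  have hcomp : ∀ z, mulMap (J.map (algebraMap A B)) C (θ z) = mulMap J C z := by
    intro z
    induction z using TensorProduct.induction_on with
    | zero => simp
    | tmul j c => rw [hθ, mulMap_tmul, mulMap_tmul, algebraMap_smul]
    | add x y hx hy => rw [map_add, map_add, map_add, hx, hy]
  rw [injective_iff_map_eq_zero]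
  intro z hz
  obtain ⟨y, rfl⟩ := hsurj z
  rw [hcomp] at hz
  rw [(injective_iff_map_eq_zero _).mp (mulMap_injective J) y hz, map_zero]

theorem flat_of_flat_mod_nilpotent [Module.Flat A C] {J : Ideal A} (hJ : IsNilpotent J)
    (h : Module.Flat (B ⧸ J.map (algebraMap A B)) ((B ⧸ J.map (algebraMap A B)) ⊗[B] C)) :
    Module.Flat B C := by
  set 𝔞 := J.map (algebraMap A B)
  obtain ⟨n, hn⟩ := hJ
  have han : 𝔞 ^ n = ⊥ := by rw [← Ideal.map_pow, hn, Ideal.zero_eq_bot, Ideal.map_bot]
  obtain ⟨K, _, _, ι, π, hι, hπ, hexact⟩ : ∃ (K : Type u) (_ : AddCommGroup K) (_ : Module B K)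
      (ι : K →ₗ[B] (C →₀ B)) (π : (C →₀ B) →ₗ[B] C),
      Function.Injective ι ∧ Function.Surjective π ∧ Function.Exact ι π :=
    ⟨LinearMap.ker (Finsupp.linearCombination B (id : C → C)), inferInstance, inferInstance,
      Submodule.subtype _, Finsupp.linearCombination B id, Submodule.subtype_injective _,
      Finsupp.linearCombination_id_surjective B C, LinearMap.exact_subtype_ker_map _⟩
  have h1 : ∀ x, ι x ∈ 𝔞 • (⊤ : Submodule B (C →₀ B)) → x ∈ 𝔞 • (⊤ : Submodule B K) := by
    intro x hx
    obtain ⟨z, hz⟩ := exists_mulMap_eq hx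
    have h0 : π.lTensor 𝔞 z = 0 := by
      apply (injective_iff_map_eq_zero _).mp (mulMap_map_injective (B := B) (C := C) J)
      rw [mulMap_lTensor, hz]
      exact hexact.apply_apply_eq_zero x
    obtain ⟨z', hz'⟩ := ((lTensor_exact 𝔞 hexact hπ) z).1 h0
    have : x = mulMap 𝔞 K z' := hι (by rw [← mulMap_lTensor, hz', hz])
    rw [this]
    exact mulMap_mem _ _
  have hV : ∀ (V : Type u) [AddCommGroup V] [Module B V], (∀ a ∈ 𝔞, ∀ v : V, a • v = 0) →
      Function.Injective (ι.lTensor V) := by
    intro V _ _ hV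
    have hT : Module.IsTorsionBySet B V (𝔞 : Set B) := fun v a => hV a a.2 v
    letI : Module (B ⧸ 𝔞) V := hT.module
    haveI : IsScalarTower B (B ⧸ 𝔞) V := hT.isScalarTower
    haveI := h
    let eN := AlgebraTensorModule.cancelBaseChange B (B ⧸ 𝔞) (B ⧸ 𝔞) V K
    let eM := AlgebraTensorModule.cancelBaseChange B (B ⧸ 𝔞) (B ⧸ 𝔞) V (C →₀ B)
    have hi : Function.Injective (ι.baseChange (B ⧸ 𝔞)) := by
      have := (quot_lTensor_injective_iff 𝔞 ι).2 h1
      intro a b hab
      exact this hab
    have hk : Function.Injective ((ι.baseChange (B ⧸ 𝔞)).lTensor V) :=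
      LinearMap.lTensor_injective_of_exact_of_flat (π.baseChange (B ⧸ 𝔞))
        (LinearMap.lTensor_surjective _ hπ) (ι.baseChange (B ⧸ 𝔞)) hi (lTensor_exact (B ⧸ 𝔞) hexact hπ) V
    have hc : ∀ z, ι.lTensor V (eN z) = eM ((ι.baseChange (B ⧸ 𝔞)).lTensor V z) := by
      intro z
      induction z using TensorProduct.induction_on with
      | zero => simp
      | tmul v w =>
        induction w using TensorProduct.induction_on with
        | zero => simp
        | tmul c n => simp [eN, eM]
        | add x y hx hy => simp only [tmul_add, map_add, hx, hy]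
      | add x y hx hy => simp only [map_add, hx, hy]
    intro a b hab
    obtain ⟨a, rfl⟩ := eN.surjective a
    obtain ⟨b, rfl⟩ := eN.surjective b
    rw [hc, hc] at hab
    rw [hk (eM.injective hab)]
  refine flat_of_exact ι hι π hπ hexact fun 𝔟 _ x hx => ?_
  have h2 := mem_pow_sup_smul_of_map_mem' ι hV hx n
  rwa [han, bot_sup_eq] at h2

end

end Groth.Agent.ThickProp
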