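import Mathlib
import Groth.Agent.ThickProp.FlatRing
import Groth.Agent.ThickProp.Ring

/-!
# Deformations of algebras flat over the base
-/

set_option autoImplicit false
universe u

open TensorProduct

namespace Groth.Agent.ThickProp

open Groth.Agent.LocalCrit

variable {A B C B₀ C₀ : Type u} [CommRing A] [CommRing B] [CommRing C] [CommRing B₀] [CommRing C₀]
  [Algebra A B] [Algebra A C] [Algebra B C] [IsScalarTower A B C] {J : Ideal A}
  {φ : B₀ →+* C₀} {p : B →+* B₀} {q : C →+* C₀}

section fp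

variable {P : Type u} [CommRing P] [Algebra A P] [Algebra B P] [IsScalarTower A B P]

theorem le_of_le_sup_smul (hJ : IsNilpotent J) {M : Type u} [AddCommGroup M] [Module A M]
    {N K : Submodule A M} (h : K ≤ N ⊔ J • K) : K ≤ N := by
  obtain ⟨m, hm⟩ := hJ
  have key : ∀ k, K ≤ N ⊔ J ^ k • K := by
    intro k
    induction k with
    | zero => rw [pow_zero, Ideal.one_eq_top, Submodule.top_smul]; exact le_sup_right
    | succ k ih =>
      refine ih.trans (sup_le le_sup_left ((Submodule.smul_mono le_rfl h).trans ?_))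
      rw [Submodule.smul_sup, ← Submodule.mul_smul, ← pow_succ]
      exact sup_le (le_sup_of_le_left Submodule.smul_le_right) le_sup_right
  have h0 := key m
  rwa [hm, Ideal.zero_eq_bot, Submodule.bot_smul, sup_bot_eq] at h0

omit [IsScalarTower A B C] in
theorem inf_smul_top_le [IsScalarTower A B C] [Module.Flat A C] (π : P →ₐ[B] C) (hπ : Function.Surjective π) {x : P}
    (hx : x ∈ RingHom.ker π) (hJx : x ∈ J • (⊤ : Submodule A P)) :
    x ∈ J • (RingHom.ker π).restrictScalars A := by
  let K : Submodule A P := (RingHom.ker π).restrictScalars A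
  have hπA : Function.Exact K.subtype (π.toLinearMap.restrictScalars A) := fun y =>
    ⟨fun hy => ⟨⟨y, hy⟩, rfl⟩, by rintro ⟨z, rfl⟩; exact z.2⟩
  have hinj := LinearMap.lTensor_injective_of_exact_of_flat (π.toLinearMap.restrictScalars A) hπ
    K.subtype K.subtype_injective hπA (A ⧸ J)
  have h4 := (quot_lTensor_injective_iff J K.subtype).mp hinj ⟨x, hx⟩ hJx
  have h5 := Submodule.mem_map_of_mem (f := K.subtype) h4
  rw [Submodule.map_smul'', Submodule.map_top, Submodule.range_subtype] at h5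
  exact h5

theorem mem_smul_top_of_tmul_eq_zero {x : P}
    (h0 : (1 : B ⧸ J.map (algebraMap A B)) ⊗ₜ[B] x = 0) : x ∈ J • (⊤ : Submodule A P) := by
  rw [one_tmul_eq_zero_iff, Ideal.smul_top_eq_map, Ideal.map_map, ← IsScalarTower.algebraMap_eq] at h0
  rw [Ideal.smul_top_eq_map]
  exact h0

theorem fg_of_fg_map (hJ : IsNilpotent J) {P₀ : Type u} [CommRing P₀] (incl : P →+* P₀)
    (hincl : Function.Surjective incl) (K : Ideal P) (hfg : (K.map incl).FG)
    (hker : ∀ x ∈ K, incl x = 0 → x ∈ J • K.restrictScalars A) : K.FG := by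
  classical
  rw [Ideal.map] at hfg
  obtain ⟨s, hs⟩ := (Submodule.fg_span_iff_fg_span_finset_subset _).mp hfg
  obtain ⟨s', hs', rfl⟩ := Finset.subset_set_image_iff.mp hs.1
  have hle : K.map incl ≤ (Ideal.span (s' : Set P)).map incl := by
    rw [Ideal.map_span, ← Finset.coe_image, Ideal.map]
    exact hs.2.le
  refine ⟨s', le_antisymm (Ideal.span_le.mpr hs') ?_⟩
  refine le_of_le_sup_smul (N := (Ideal.span (s' : Set P)).restrictScalars A)
    (K := K.restrictScalars A) hJ ?_
  intro x hx
  obtain ⟨y, hy, hxy⟩ := (Ideal.mem_map_iff_of_surjective _ hincl).mp (hle (Ideal.mem_map_of_mem _ hx))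
  rw [← add_sub_cancel y x]
  exact Submodule.add_mem_sup hy (hker _ (sub_mem hx (Ideal.span_le.mpr hs' hy))
    (by rw [map_sub, hxy, sub_self]))

omit [Algebra A B] [Algebra A C] [IsScalarTower A B C] [Algebra A P] [IsScalarTower A B P] in
theorem fg_map_ker (S : Type u) [CommRing S] [Algebra B S] [Algebra.FinitePresentation B P]
    [Algebra.FinitePresentation S (S ⊗[B] C)] (π : P →ₐ[B] C) (hπ : Function.Surjective π) :
    ((RingHom.ker π).map (Algebra.TensorProduct.includeRight : P →ₐ[B] S ⊗[B] P)).FG := by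
  let π₀ : S ⊗[B] P →ₐ[S] S ⊗[B] C := Algebra.TensorProduct.map (AlgHom.id S S) π
  have hπ₀ : Function.Surjective π₀ := Algebra.TensorProduct.map_surjective _ _ Function.surjective_id hπ
  have hk := Algebra.TensorProduct.lTensor_ker (A := S) π hπ
  have hfg : (RingHom.ker π₀.toRingHom).FG := Algebra.FinitePresentation.ker_fG_of_surjective π₀ hπ₀
  rw [← hk]
  exact hfg

theorem ker_fg_of_reduction [Module.Flat A C] [Algebra.FinitePresentation B P]
    [Algebra.FinitePresentation (B ⧸ J.map (algebraMap A B)) ((B ⧸ J.map (algebraMap A B)) ⊗[B] C)]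
    (hJ : IsNilpotent J) (π : P →ₐ[B] C) (hπ : Function.Surjective π) : (RingHom.ker π).FG :=
  fg_of_fg_map hJ (Algebra.TensorProduct.includeRight :
      P →ₐ[B] (B ⧸ J.map (algebraMap A B)) ⊗[B] P).toRingHom
    (TensorProduct.mk_surjective B _ _ Ideal.Quotient.mk_surjective) _ (fg_map_ker _ π hπ)
    (fun _ hx h0 => inf_smul_top_le π hπ hx (mem_smul_top_of_tmul_eq_zero h0))

end fp

section bc

variable (h : q.comp (algebraMap B C) = φ.comp p) (hp : Function.Surjective p) (hq : Function.Surjective q)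
  (hkp : RingHom.ker p = J.map (algebraMap A B)) (hkq : RingHom.ker q = J.map (algebraMap A C))

include h hp hq hkp hkq

/-- The reduction of `C` is `C₀`. -/
theorem prop_baseChange {Q : ∀ {R S : Type u} [CommRing R] [CommRing S], (R →+* S) → Prop}
    (hQ : RingHom.RespectsIso Q) (hφ : Q φ) :
    Q (algebraMap (B ⧸ J.map (algebraMap A B)) ((B ⧸ J.map (algebraMap A B)) ⊗[B] C)) := by
  set 𝔞 := J.map (algebraMap A B)
  let eB : B ⧸ 𝔞 ≃+* B₀ := (Ideal.quotEquivOfEq hkp.symm).trans (RingHom.quotientKerEquivOfSurjective hp)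
  let eC : C₀ ≃+* (B ⧸ 𝔞) ⊗[B] C :=
    ((RingHom.quotientKerEquivOfSurjective hq).symm.trans (Ideal.quotEquivOfEq (show RingHom.ker q =
      𝔞.map (algebraMap B C) by rw [hkq, Ideal.map_map, ← IsScalarTower.algebraMap_eq]))).trans
      (Algebra.TensorProduct.quotIdealMapEquivQuotTensor C 𝔞).toRingEquiv
  have key : algebraMap (B ⧸ 𝔞) ((B ⧸ 𝔞) ⊗[B] C) = eC.toRingHom.comp (φ.comp eB.toRingHom) := by
    refine Ideal.Quotient.ringHom_ext (RingHom.ext fun b => ?_)
    have h1 : eB (Ideal.Quotient.mk 𝔞 b) = p b := rfl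
    have h2 : φ (p b) = q (algebraMap B C b) := (RingHom.congr_fun h b).symm
    have h3 : ∀ c : C, eC (q c) = (1 : B ⧸ 𝔞) ⊗ₜ[B] c := fun c => by
      simp only [eC, RingEquiv.trans_apply]
      rw [show (RingHom.quotientKerEquivOfSurjective hq).symm (q c) = Ideal.Quotient.mk _ c from
        (RingEquiv.symm_apply_eq _).mpr rfl]
      rfl
    show algebraMap (B ⧸ 𝔞) ((B ⧸ 𝔞) ⊗[B] C) (Ideal.Quotient.mk 𝔞 b) = eC (φ (eB (Ideal.Quotient.mk 𝔞 b)))
    rw [h1, h2, h3, Algebra.TensorProduct.algebraMap_apply, Algebra.algebraMap_self_apply]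
    rw [show Ideal.Quotient.mk 𝔞 b = b • (1 : B ⧸ 𝔞) by rw [Algebra.smul_def, mul_one]; rfl,
      TensorProduct.smul_tmul, Algebra.smul_def, mul_one]
  rw [key]
  exact hQ.1 _ _ (hQ.2 _ _ hφ)

variable (hJ : IsNilpotent J) [Module.Flat A C]
include hJ

theorem flat_of_reduction (hφ : φ.Flat) : Module.Flat B C :=
  flat_of_flat_mod_nilpotent hJ
    (RingHom.flat_algebraMap_iff.mp (prop_baseChange h hp hq hkp hkq RingHom.Flat.respectsIso hφ))

theorem finitePresentation_of_reduction (hφ : φ.FinitePresentation) : Algebra.FinitePresentation B C := by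
  haveI : Algebra.FinitePresentation (B ⧸ J.map (algebraMap A B)) ((B ⧸ J.map (algebraMap A B)) ⊗[B] C) :=
    RingHom.finitePresentation_algebraMap.mp
      (prop_baseChange h hp hq hkp hkq RingHom.finitePresentation_respectsIso hφ)
  haveI hft : Algebra.FiniteType B C := RingHom.finiteType_algebraMap.mp
    (finiteType_of_nilpotent (algebraMap B C) φ p q h (by
      rw [hkp, hkq, Ideal.map_map, ← IsScalarTower.algebraMap_eq]) hp hq
      (by rw [hkp]; exact isNilpotent_map (algebraMap A B) hJ le_rfl) (RingHom.FiniteType.of_finitePresentation hφ))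
  obtain ⟨n, π, hπ⟩ := Algebra.FiniteType.iff_quotient_mvPolynomial''.mp hft
  exact Algebra.FinitePresentation.of_surjective hπ (ker_fg_of_reduction hJ π hπ)

theorem smooth_of_reduction (hφ : φ.Smooth) : Algebra.Smooth B C := by
  set 𝔞 := J.map (algebraMap A B)
  haveI : Algebra.Smooth (B ⧸ 𝔞) ((B ⧸ 𝔞) ⊗[B] C) :=
    RingHom.smooth_algebraMap.mp (prop_baseChange h hp hq hkp hkq RingHom.Smooth.respectsIso hφ)
  haveI := flat_of_reduction h hp hq hkp hkq hJ hφ.flat
  haveI := finitePresentation_of_reduction h hp hq hkp hkq hJ hφ.finitePresentation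
  refine Algebra.Smooth.of_formallySmooth_fiber fun P hP => ?_
  have hle : ∀ b ∈ 𝔞, algebraMap B P.ResidueField b = 0 := fun b hb => by
    obtain ⟨k, hk⟩ : IsNilpotent 𝔞 := isNilpotent_map (algebraMap A B) hJ le_rfl
    have : (algebraMap B P.ResidueField b) ^ k = 0 := by
      have := Ideal.pow_mem_pow hb k
      rw [hk, Ideal.zero_eq_bot, Ideal.mem_bot] at this
      rw [← map_pow, this, map_zero]
    exact IsNilpotent.eq_zero ⟨k, this⟩
  letI : Algebra (B ⧸ 𝔞) P.ResidueField := (Ideal.Quotient.lift 𝔞 (algebraMap B P.ResidueField) hle).toAlgebra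
  haveI : IsScalarTower B (B ⧸ 𝔞) P.ResidueField := IsScalarTower.of_algebraMap_eq' rfl
  exact Algebra.FormallySmooth.of_equiv (Algebra.TensorProduct.cancelBaseChange B (B ⧸ 𝔞) P.ResidueField P.ResidueField C)

end bc

end Groth.Agent.ThickProp
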