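import Mathlib
import Groth.Agent.ThickProp.Scheme
import Groth.Agent.ThickProp.DeformRing

/-!
# Morphisms between deformations

`f' : X' ⟶ Y'` over `S'` with `X'` flat over `S'`, and `f` its restriction to a finite order thinner base.
-/

set_option autoImplicit false
set_option backward.isDefEq.respectTransparency false
universe u

open AlgebraicGeometry CategoryTheory CategoryTheory.Limits TopologicalSpace

namespace Groth.Agent.ThickProp

variable {X X' Y Y' S S' : Scheme.{u}} {iX : X ⟶ X'} {iY : Y ⟶ Y'} {iS : S ⟶ S'}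
  {f : X ⟶ Y} {f' : X' ⟶ Y'} {g : Y ⟶ S} {g' : Y' ⟶ S'}
variable (hcX : IsPullback iX (f ≫ g) (f' ≫ g') iS) (hcY : IsPullback iY g g' iS) (w : iX ≫ f' = f ≫ iY)

include hcX hcY w

theorem isPullback_deform : IsPullback iX f f' iY :=
  IsPullback.of_bot hcX w hcY

omit hcX hcY w in
theorem exists_affine_triple (f' : X' ⟶ Y') (g' : Y' ⟶ S') (x : X') :
    ∃ (W : S'.affineOpens) (U : Y'.affineOpens) (V : X'.affineOpens) (_ : x ∈ V.1)
      (_ : U.1 ≤ g' ⁻¹ᵁ W.1), V.1 ≤ f' ⁻¹ᵁ U.1 := by
  obtain ⟨W, hW⟩ := NilAffine.affineOpens_cover S' (g' (f' x))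
  obtain ⟨U, hU, hxU, hUW⟩ := exists_isAffineOpen_mem_and_subset (X := Y') (x := f' x) (U := g' ⁻¹ᵁ W.1) hW
  obtain ⟨V, hV, hxV, hVU⟩ := exists_isAffineOpen_mem_and_subset (X := X') (x := x) (U := f' ⁻¹ᵁ U) hxU
  exact ⟨W, ⟨U, hU⟩, ⟨V, hV⟩, hxV, hUW, hVU⟩

section piece

variable [IsClosedImmersion iS] [Flat (f' ≫ g')]
  {W : S'.affineOpens} {U : Y'.affineOpens} {V : X'.affineOpens}
  (eU : U.1 ≤ g' ⁻¹ᵁ W.1) (e : V.1 ≤ f' ⁻¹ᵁ U.1)

include eU e in
/-- The affine piece, packaged for the ring lemmas. -/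
theorem piece {Q₀ Q : ∀ {R S : Type u} [CommRing R] [CommRing S], (R →+* S) → Prop}
    (hQ : ∀ {A B C B₀ C₀ : Type u} [CommRing A] [CommRing B] [CommRing C] [CommRing B₀] [CommRing C₀]
      [Algebra A B] [Algebra A C] [Algebra B C] [IsScalarTower A B C] {J : Ideal A}
      {φ : B₀ →+* C₀} {p : B →+* B₀} {q : C →+* C₀}
      (_ : q.comp (algebraMap B C) = φ.comp p) (_ : Function.Surjective p) (_ : Function.Surjective q)
      (_ : RingHom.ker p = J.map (algebraMap A B)) (_ : RingHom.ker q = J.map (algebraMap A C))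
      (_ : IsNilpotent J) [Module.Flat A C], Q₀ φ → Q (algebraMap B C))
    (hn : IsNilpotent iS.ker)
    (h0 : Q₀ (f.appLE (iY ⁻¹ᵁ U.1) (iX ⁻¹ᵁ V.1) (preimage_le w e)).hom) :
    Q (f'.appLE U.1 V.1 e).hom := by
  have := isClosedImmersion_left hcX
  have := isClosedImmersion_left hcY
  have eW : V.1 ≤ (f' ≫ g') ⁻¹ᵁ W.1 := e.trans (f'.preimage_mono eU)
  letI := (g'.appLE W.1 U.1 eU).hom.toAlgebra
  letI := ((f' ≫ g').appLE W.1 V.1 eW).hom.toAlgebra
  letI := (f'.appLE U.1 V.1 e).hom.toAlgebra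
  haveI : IsScalarTower Γ(S', W.1) Γ(Y', U.1) Γ(X', V.1) := IsScalarTower.of_algebraMap_eq' (by
    show ((f' ≫ g').appLE W.1 V.1 eW).hom = (f'.appLE U.1 V.1 e).hom.comp (g'.appLE W.1 U.1 eU).hom
    rw [← CommRingCat.hom_comp]
    congr 1
    exact (Scheme.Hom.appLE_comp_appLE _ _ _ _ _ _ _).symm)
  haveI : Module.Flat Γ(S', W.1) Γ(X', V.1) :=
    HasRingHomProperty.appLE (P := @Flat) (f' ≫ g') inferInstance W V eW
  exact hQ (appLE_square w e) (iY.app_surjective U.1 U.2) (iX.app_surjective V.1 V.2)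
    (ker_app_eq_map hcY W U eU) (ker_app_eq_map hcX W V eW) (isNilpotent_ker_app hn W) h0

end piece

variable [IsClosedImmersion iS] [Flat (f' ≫ g')] (hn : IsNilpotent iS.ker)
include hn

theorem flat_of_deform [Flat f] : Flat f' := by
  have := isClosedImmersion_left hcX
  have := isClosedImmersion_left hcY
  rw [HasRingHomProperty.iff_exists_appLE (P := @Flat)
    (RingHom.Flat.stableUnderComposition.stableUnderCompositionWithLocalizationAway
      RingHom.Flat.holdsForLocalizationAway).1]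
  intro x
  obtain ⟨W, U, V, hxV, eU, e⟩ := exists_affine_triple f' g' x
  exact ⟨U, V, hxV, e, piece hcX hcY w eU e (Q₀ := RingHom.Flat) (Q := RingHom.Flat)
    (fun h hp hq hkp hkq hJ _ hφ => RingHom.flat_algebraMap_iff.mpr (flat_of_reduction h hp hq hkp hkq hJ hφ)) hn
    (HasRingHomProperty.appLE (P := @Flat) f inferInstance
      ⟨iY ⁻¹ᵁ U.1, U.2.preimage iY⟩ ⟨iX ⁻¹ᵁ V.1, V.2.preimage iX⟩ (preimage_le w e))⟩

theorem locallyOfFinitePresentation_of_deform [LocallyOfFinitePresentation f] : LocallyOfFinitePresentation f' := by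
  have := isClosedImmersion_left hcX
  have := isClosedImmersion_left hcY
  rw [HasRingHomProperty.iff_exists_appLE (P := @LocallyOfFinitePresentation)
    (RingHom.finitePresentation_stableUnderComposition.stableUnderCompositionWithLocalizationAway
      RingHom.finitePresentation_holdsForLocalizationAway).1]
  intro x
  obtain ⟨W, U, V, hxV, eU, e⟩ := exists_affine_triple f' g' x
  exact ⟨U, V, hxV, e, piece hcX hcY w eU e (Q₀ := RingHom.FinitePresentation) (Q := RingHom.FinitePresentation)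
    (fun h hp hq hkp hkq hJ _ hφ => RingHom.finitePresentation_algebraMap.mpr
      (finitePresentation_of_reduction h hp hq hkp hkq hJ hφ)) hn
    (HasRingHomProperty.appLE (P := @LocallyOfFinitePresentation) f inferInstance
      ⟨iY ⁻¹ᵁ U.1, U.2.preimage iY⟩ ⟨iX ⁻¹ᵁ V.1, V.2.preimage iX⟩ (preimage_le w e))⟩

theorem smooth_of_deform [Smooth f] : Smooth f' := by
  have := isClosedImmersion_left hcX
  have := isClosedImmersion_left hcY
  rw [HasRingHomProperty.iff_exists_appLE (P := @Smooth)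
    (RingHom.Smooth.stableUnderComposition.stableUnderCompositionWithLocalizationAway
      RingHom.Smooth.holdsForLocalizationAway).1]
  intro x
  obtain ⟨W, U, V, hxV, eU, e⟩ := exists_affine_triple f' g' x
  exact ⟨U, V, hxV, e, piece hcX hcY w eU e (Q₀ := RingHom.Smooth) (Q := RingHom.Smooth)
    (fun h hp hq hkp hkq hJ _ hφ => RingHom.smooth_algebraMap.mpr
      (smooth_of_reduction h hp hq hkp hkq hJ hφ)) hn
    (HasRingHomProperty.appLE (P := @Smooth) f inferInstance
      ⟨iY ⁻¹ᵁ U.1, U.2.preimage iY⟩ ⟨iX ⁻¹ᵁ V.1, V.2.preimage iX⟩ (preimage_le w e))⟩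

theorem etale_of_deform [Etale f] : Etale f' := by
  have := isClosedImmersion_left hcY
  rw [Etale.iff_flat_and_formallyUnramified]
  exact ⟨flat_of_deform hcX hcY w hn,
    formallyUnramified_of_finiteOrder (isPullback_deform hcX hcY w) (isNilpotent_ker_left hcY hn),
    locallyOfFinitePresentation_of_deform hcX hcY w hn⟩

theorem isOpenImmersion_of_deform [IsOpenImmersion f] : IsOpenImmersion f' := by
  have := isClosedImmersion_left hcY
  haveI := flat_of_deform hcX hcY w hn
  haveI := locallyOfFinitePresentation_of_deform hcX hcY w hn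
  haveI := mono_of_finiteOrder (isPullback_deform hcX hcY w) (isNilpotent_ker_left hcY hn)
  exact IsOpenImmersion.of_flat_of_mono f'

theorem isIso_of_deform [Surjective iS] [IsIso f] : IsIso f' := by
  haveI := surjective_left hcY
  haveI := isOpenImmersion_of_deform hcX hcY w hn
  haveI : Surjective f' := by
    haveI : Surjective (iX ≫ f') := w ▸ inferInstance
    exact ⟨fun y => by
      obtain ⟨x, hx⟩ := (iX ≫ f').surjective y
      exact ⟨iX x, by rw [← Scheme.Hom.comp_apply, hx]⟩⟩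
  exact (isIso_iff_isOpenImmersion_and_surjective f').mpr ⟨inferInstance, inferInstance⟩

end Groth.Agent.ThickProp
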